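import Groth.Agent.RedHomogTop.Components
import Mathlib.AlgebraicGeometry.Fiber
import Mathlib.CategoryTheory.Comma.Over.Pullback

/-!
# Moving geometric points of a fibre into an open subset

For an action of `G` on `X` over `S` with surjective `(g, x) ↦ (g x, x)` and quasi-separated connected fibres, any two
geometric points of a fibre can be moved simultaneously, by a geometric point of a given neighbourhood of the unit, into
any open subset meeting that fibre.
-/

set_option autoImplicit false
set_option backward.isDefEq.respectTransparency.types false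

universe u

open CategoryTheory CategoryTheory.Limits MonoidalCategory CartesianMonoidalCategory MonObj GrpObj AlgebraicGeometry
open Groth.Agent.GrpSchLib

namespace Groth.Agent.HomSepQC

variable {S : Scheme.{u}} {G X : Over S} [GrpObj G] (a : AlgGrp.Action G X)
  (hΦ : Surjective (lift a.act (snd G X)).left)

include hΦ in
theorem surjective_bc {S' : Scheme.{u}} (t : S' ⟶ S) :
    Surjective (lift (a.bc t).act (snd (Red.bc t G) (Red.bc t X))).left := by
  let F := Over.pullback t
  have e : lift (a.bc t).act (snd (F.obj G) (F.obj X)) ≫ Functor.LaxMonoidal.μ F X X =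
      Functor.LaxMonoidal.μ F G X ≫ F.map (lift a.act (snd G X)) := by
    rw [← Functor.Monoidal.lift_μ, comp_lift_assoc, Functor.Monoidal.μ_snd, AlgGrp.Action.bc_act]
  have : Surjective (F.map (lift a.act (snd G X))).left :=
    MorphismProperty.baseChange_map (P := @Surjective) _ (lift a.act (snd G X)) hΦ
  have h1 : IsIso (Functor.LaxMonoidal.μ F G X).left := (Over.forget _).map_isIso _
  have h2 : IsIso (Functor.LaxMonoidal.μ F X X).left := (Over.forget _).map_isIso _
  have h3 : Surjective ((lift (a.bc t).act (snd (F.obj G) (F.obj X))).left ≫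
      (Functor.LaxMonoidal.μ F X X).left) := by
    rw [← Over.comp_left, e, Over.comp_left]
    infer_instance
  exact (MorphismProperty.cancel_right_of_respectsIso (P := @Surjective) _ _).mp h3

include hΦ in
/-- The orbit of the neutral component of a geometric fibre meets every non-empty open subset of the fibre. -/
theorem orbit_mem {k : Type u} [Field k] (σ : Spec (CommRingCat.of k) ⟶ S)
    [QuasiSeparatedSpace (Red.bc σ X).left] [PreconnectedSpace (Red.bc σ X).left]
    {K : Type u} [Field K] [IsAlgClosed K] (φ : Spec (CommRingCat.of K) ⟶ Spec (CommRingCat.of k))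
    (t : Spec (CommRingCat.of K) ⟶ S) (hφ : φ ≫ σ = t)
    {g₀ : (Red.bc t G).left} (hg₀ : IsMaxPt g₀) (hg₀e : g₀ ⤳ η[Red.bc t G].left (IsLocalRing.closedPoint K))
    (ybar : 𝟙_ (Over (Spec (CommRingCat.of K))) ⟶ Red.bc t X)
    (V : X.left.Opens) (v : (Red.bc σ X).left) (hv : pullback.fst X.hom σ v ∈ V) :
    pullback.fst X.hom t (((a.bc t).orbitMap ybar).left g₀) ∈ V := by
  let ψ : (Red.bc t X).left ⟶ (Red.bc σ X).left := pullback.lift (pullback.fst X.hom t)
    (pullback.snd X.hom t ≫ φ) (by rw [pullback.condition, Category.assoc, hφ])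
  have hψ : IsPullback ψ (pullback.snd X.hom t) (pullback.snd X.hom σ) φ := by
    refine IsPullback.of_right ?_ (pullback.lift_snd _ _ _) (IsPullback.of_hasPullback X.hom σ)
    rw [pullback.lift_fst, hφ]
    exact IsPullback.of_hasPullback X.hom t
  haveI : Flat φ := by
    obtain ⟨f, rfl⟩ := Spec.map_surjective φ
    exact GrpSchLib.flat_spec_map_field f.hom
  haveI : Flat ψ := MorphismProperty.of_isPullback hψ.flip inferInstance
  have hmax := (RedHomogTop.orbit_isMaxPt (a.bc t) hg₀ hg₀e (surjective_bc a hΦ t) ybar).1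
  obtain ⟨g, hg, hge⟩ := exists_isMaxPt (η[Red.bc σ G].left (IsLocalRing.closedPoint k))
  have h := RedHomogTop.connectedComponent_eq (a.bc σ) hg hge (surjective_bc a hΦ σ)
    (hmax.map (Flat.generalizingMap ψ)) (specializes_rfl (x := ψ (((a.bc t).orbitMap ybar).left g₀)))
  rw [PreconnectedSpace.connectedComponent_eq_univ] at h
  have h1 : ψ (((a.bc t).orbitMap ybar).left g₀) ⤳ v := specializes_iff_mem_closure.mpr (h ▸ Set.mem_univ v)
  have h2 := h1.map (pullback.fst X.hom σ).continuous
  rw [← Scheme.Hom.comp_apply, pullback.lift_fst] at h2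
  exact h2.mem_open V.2 hv

include hΦ in
/-- The main point. -/
theorem exists_move {K : Type u} [Field K] [IsAlgClosed K] (t : Spec (CommRingCat.of K) ⟶ S)
    (W : G.left.Opens) (hW : η[G].left (t (IsLocalRing.closedPoint K)) ∈ W)
    (hqs : QuasiSeparatedSpace ↥(X.hom.base ⁻¹' {t (IsLocalRing.closedPoint K)}))
    (hconn : _root_.IsPreconnected (X.hom.base ⁻¹' {t (IsLocalRing.closedPoint K)}))
    (V : X.left.Opens) (hV : ∃ v ∈ V, X.hom v = t (IsLocalRing.closedPoint K))
    (y₁ y₂ : Over.mk t ⟶ X) :
    ∃ (R : Over S) (r : R.left) (g : R ⟶ G) (c : R ⟶ Over.mk t), g.left r ∈ W ∧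
      (lift g (c ≫ y₁) ≫ a.act).left r ∈ V ∧ (lift g (c ≫ y₂) ≫ a.act).left r ∈ V := by
  obtain ⟨v, hvV, hv⟩ := hV
  let s := t (IsLocalRing.closedPoint K)
  let σ : Spec (CommRingCat.of (S.residueField s)) ⟶ S := S.fromSpecResidueField s
  -- `t` factors through the point `s`
  obtain ⟨φ, hφ⟩ : ∃ φ : Spec (CommRingCat.of K) ⟶ Spec (CommRingCat.of (S.residueField s)), φ ≫ σ = t :=
    ⟨Spec.map (Scheme.descResidueField (Scheme.stalkClosedPointTo t)),
      Scheme.descResidueField_stalkClosedPointTo_fromSpecResidueField K S t⟩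
  let e : (Red.bc σ X).left ≃ₜ ↥(X.hom.base ⁻¹' {s}) := X.hom.fiberHomeo s
  haveI : QuasiSeparatedSpace (Red.bc σ X).left :=
    QuasiSeparatedSpace.of_isOpenEmbedding (f := e) e.isOpenEmbedding
  haveI : PreconnectedSpace ↥(X.hom.base ⁻¹' {s}) := Subtype.preconnectedSpace hconn
  haveI : PreconnectedSpace (Red.bc σ X).left :=
    e.symm.surjective.denseRange.preconnectedSpace e.symm.continuous
  obtain ⟨v', hv'1, -⟩ := Scheme.Pullback.exists_preimage_pullback (f := X.hom) (g := σ) v
    (IsLocalRing.closedPoint (S.residueField s)) (hv.trans (S.fromSpecResidueField_apply s _).symm)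
  obtain ⟨g₀, hg₀, hg₀e⟩ := exists_isMaxPt (η[Red.bc t G].left (IsLocalRing.closedPoint K))
  let R : Over S := (Over.map t).obj (Red.bc t G)
  let gR : R ⟶ G := Over.homMk (pullback.fst G.hom t) pullback.condition
  let cR : R ⟶ Over.mk t := Over.homMk (U := (Over.map t).obj (Red.bc t G)) (V := Over.mk t)
    (pullback.snd G.hom t) rfl
  refine ⟨R, g₀, gR, cR, ?_, ?_⟩
  · show pullback.fst G.hom t g₀ ∈ W
    refine (hg₀e.map (pullback.fst G.hom t).continuous).mem_open W.2 ?_
    have e : η[Red.bc t G].left ≫ pullback.fst G.hom t = t ≫ η[G].left := by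
      show (Functor.LaxMonoidal.ε (Over.pullback t) ≫ (Over.pullback t).map η[G]).left ≫ _ = _
      rw [Over.comp_left, Category.assoc, ActBC.pullback_map_left_fst]
      simp [← Category.assoc]
    rw [← Scheme.Hom.comp_apply, e, Scheme.Hom.comp_apply]
    exact hW
  have key : ∀ y : Over.mk t ⟶ X, (lift gR (cR ≫ y) ≫ a.act).left g₀ ∈ V := by
    intro y
    let ybar : 𝟙_ (Over (Spec (CommRingCat.of K))) ⟶ Red.bc t X :=
      Over.homMk (pullback.lift y.left (𝟙 _) (by rw [Over.w y]; exact (Category.id_comp _).symm))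
        (pullback.lift_snd _ _ _)
    have horb : (a.bc t).orbitMap ybar =
        (Over.mapPullbackAdj t).homEquiv (Red.bc t G) X (lift gR (cR ≫ y) ≫ a.act) := by
      rw [← AlgGrp.Action.lift_homEquiv_bc_act, AlgGrp.Action.orbitMap]
      congr 2
      · apply Over.OverMorphism.ext
        apply pullback.hom_ext
        · simp [Adjunction.homEquiv_unit, Over.mapPullbackAdj, gR, R]
        · simp [Adjunction.homEquiv_unit, Over.mapPullbackAdj, gR, R]
      · apply Over.OverMorphism.ext
        apply pullback.hom_ext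
        · simp [Adjunction.homEquiv_unit, Over.mapPullbackAdj, ybar, cR, R]
          erw [pullback.lift_fst, pullback.lift_fst]
        · simp [Adjunction.homEquiv_unit, Over.mapPullbackAdj, ybar, cR, R]
          erw [pullback.lift_snd, pullback.lift_snd]
          exact Category.comp_id _
    have h := orbit_mem a hΦ σ φ t hφ hg₀ hg₀e ybar V v' (hv'1.symm ▸ hvV)
    rw [horb, ← Scheme.Hom.comp_apply] at h
    have h3 : ((Over.mapPullbackAdj t).homEquiv (Red.bc t G) X (lift gR (cR ≫ y) ≫ a.act)).left ≫
        pullback.fst X.hom t = (lift gR (cR ≫ y) ≫ a.act).left := by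
      simp [Adjunction.homEquiv_unit, Over.mapPullbackAdj, R]
      erw [pullback.lift_fst]
    rw [h3] at h
    exact h
  exact ⟨key y₁, key y₂⟩

end Groth.Agent.HomSepQC
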