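import Groth.Agent.HomSepQC.Fibre
import Mathlib.AlgebraicGeometry.Morphisms.UniversallyOpen
import Mathlib.AlgebraicGeometry.Morphisms.QuasiCompact
import Mathlib.AlgebraicGeometry.Morphisms.Separated

/-!
# Separatedness and quasi-compactness of homogeneous spaces with connected fibres
-/

set_option autoImplicit false
set_option backward.isDefEq.respectTransparency.types false

universe u

open CategoryTheory CategoryTheory.Limits MonoidalCategory CartesianMonoidalCategory MonObj GrpObj AlgebraicGeometry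
open Groth.Agent.GrpSchLib

namespace Groth.Agent.HomSepQC

variable {S : Scheme.{u}}

/-- A field-valued point lies in the diagonal iff its two components agree. -/
theorem mem_range_diag_iff (A : Over S) {L : Type u} [Field L] (t : Spec (CommRingCat.of L) ⟶ S)
    (l : Over.mk t ⟶ A ⊗ A) :
    l.left (IsLocalRing.closedPoint L) ∈ Set.range (lift (𝟙 A) (𝟙 A)).left ↔ l ≫ fst A A = l ≫ snd A A := by
  constructor
  · rintro ⟨x, hx⟩
    haveI : IsImmersion (lift (𝟙 A) (𝟙 A)).left := inferInstanceAs (IsImmersion (pullback.diagonal A.hom))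
    let p := pullback.fst l.left (lift (𝟙 A) (𝟙 A)).left
    haveI : IsImmersion p := MorphismProperty.pullback_fst _ _ ‹_›
    haveI : Subsingleton ↥(Over.mk t).left := inferInstanceAs (Subsingleton (PrimeSpectrum L))
    haveI : IsReduced (Over.mk t).left := inferInstanceAs (IsReduced (Spec (CommRingCat.of L)))
    haveI : Surjective p := ⟨fun y => by
      obtain ⟨z, hz, -⟩ := Scheme.Pullback.exists_preimage_pullback (f := l.left)
        (g := (lift (𝟙 A) (𝟙 A)).left) (IsLocalRing.closedPoint L) x hx.symm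
      exact ⟨z, hz.trans (Subsingleton.elim _ _)⟩⟩
    haveI : IsClosedImmersion p := IsClosedImmersion.of_isPreimmersion p (by
      rw [Set.range_eq_univ.mpr p.surjective]; exact isClosed_univ)
    haveI := isIso_of_isClosedImmersion_of_surjective p
    apply Over.OverMorphism.ext
    rw [← cancel_epi p]
    simp only [Over.comp_left, p, pullback.condition_assoc]
    rw [← Over.comp_left, ← Over.comp_left, lift_fst, lift_snd]
  · intro h
    have e : l = (l ≫ fst A A) ≫ lift (𝟙 A) (𝟙 A) := by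
      apply CartesianMonoidalCategory.hom_ext
      · simp
      · simp [h]
    rw [e, left_comp_apply]
    exact ⟨_, rfl⟩

variable {G X : Over S} [GrpObj G] (a : AlgGrp.Action G X)
  (hΦ : Surjective (lift a.act (snd G X)).left)

theorem act_cancel {T : Over S} (g : T ⟶ G) {y₁ y₂ : T ⟶ X}
    (h : lift g y₁ ≫ a.act = lift g y₂ ≫ a.act) : y₁ = y₂ := by
  have e : ∀ y : T ⟶ X, lift g⁻¹ (lift g y ≫ a.act) ≫ a.act = y := fun y => by
    rw [act_mul, inv_mul_cancel, act_one]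
  rw [← e y₁, h, e y₂]

include hΦ in
theorem isSeparated (W : G.left.Opens) (hW : ∀ p : ↥(𝟙_ (Over S)).left, η[G].left.base p ∈ W)
    (hWo : UniversallyOpen (W.ι ≫ G.hom))
    (hqs : ∀ s : S, QuasiSeparatedSpace ↥(X.hom.base ⁻¹' {s}))
    (hconn : ∀ s : S, _root_.IsPreconnected (X.hom.base ⁻¹' {s})) : IsSeparated X.hom := by
  haveI : IsImmersion (pullback.diagonal X.hom) := inferInstance
  refine (isSeparated_iff X.hom).mpr (IsClosedImmersion.of_isPreimmersion _ ?_)
  show IsClosed (Set.range (lift (𝟙 X) (𝟙 X)).left)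
  rw [← isOpen_compl_iff]
  refine isOpen_iff_forall_mem_open.mpr fun z hz => ?_
  -- a geometric point over `z`
  let XX : Over S := X ⊗ X
  let K := AlgebraicClosure (XX.left.residueField z)
  let tK : Spec (CommRingCat.of K) ⟶ XX.left :=
    Spec.map (CommRingCat.ofHom (algebraMap (XX.left.residueField z) K)) ≫ XX.left.fromSpecResidueField z
  let y : Over.mk (tK ≫ XX.hom) ⟶ XX := Over.homMk tK rfl
  have hy : ∀ p, y.left p = z := fun p => XX.left.fromSpecResidueField_apply z _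
  obtain ⟨V, hV, hxV, -⟩ := exists_isAffineOpen_mem_and_subset
    (show (fst X X).left z ∈ (⊤ : X.left.Opens) from trivial)
  obtain ⟨R, r, g, c, hgW, h1, h2⟩ := exists_move a hΦ (tK ≫ XX.hom) W (hW _) (hqs _) (hconn _) V
    ⟨_, hxV, by
      rw [← Scheme.Hom.comp_apply, Over.w (fst X X), Scheme.Hom.comp_apply]
      exact congrArg XX.hom (hy _).symm⟩ (y ≫ fst X X) (y ≫ snd X X)
  let q₁ : G ⊗ XX ⟶ X := lift (fst G XX) (snd G XX ≫ fst X X) ≫ a.act
  let q₂ : G ⊗ XX ⟶ X := lift (fst G XX) (snd G XX ≫ snd X X) ≫ a.act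
  let π : (G ⊗ XX).left ⟶ XX.left := (snd G XX).left
  let U : (G ⊗ XX).left.Opens := (fst G XX).left ⁻¹ᵁ W ⊓ (q₁.left ⁻¹ᵁ V ⊓ q₂.left ⁻¹ᵁ V)
  -- the projection is open on `U`
  have hopen : ∀ O : Set (G ⊗ XX).left, IsOpen O → O ⊆ U → IsOpen (π '' O) := by
    intro O hO hOU
    let j : pullback (W.ι ≫ G.hom) XX.hom ⟶ (G ⊗ XX).left :=
      pullback.map _ _ _ _ W.ι (𝟙 _) (𝟙 _) (by simp) (by simp)
    haveI : UniversallyOpen (pullback.snd (W.ι ≫ G.hom) XX.hom) := MorphismProperty.pullback_snd _ _ hWo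
    have hj : j ≫ π = pullback.snd (W.ι ≫ G.hom) XX.hom :=
      (pullback.lift_snd _ _ _).trans (Category.comp_id _)
    have hr : O ⊆ Set.range j := by
      intro p hp
      rw [show Set.range j = pullback.fst G.hom XX.hom ⁻¹' Set.range W.ι ∩
        pullback.snd G.hom XX.hom ⁻¹' Set.range (𝟙 XX.left : XX.left ⟶ XX.left) from
          Scheme.Pullback.range_map _ _ _ _ _ _ _ _ _]
      exact ⟨by rw [Set.mem_preimage, Scheme.Opens.range_ι]; exact (hOU hp).1, ⟨π p, rfl⟩⟩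
    rw [← Set.image_preimage_eq_of_subset hr, Set.image_image]
    simp only [← Scheme.Hom.comp_apply, hj]
    exact (pullback.snd (W.ι ≫ G.hom) XX.hom).isOpenMap _ (hO.preimage j.continuous)
  -- pulling back the diagonal to `U` gives a closed set
  let Uo : Over S := Over.mk (U.ι ≫ (G ⊗ XX).hom)
  let ιU : Uo ⟶ G ⊗ XX := Over.homMk U.ι rfl
  let Vo : Over S := Over.mk (V.ι ≫ X.hom)
  let ιV : Vo ⟶ X := Over.homMk V.ι rfl
  haveI : Mono ιV.left := inferInstanceAs (Mono V.ι)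
  haveI : IsAffine V.toScheme := hV
  haveI : IsSeparated Vo.hom := inferInstanceAs (IsSeparated (V.ι ≫ X.hom))
  obtain ⟨f₁, hf₁⟩ : ∃ f : Uo ⟶ Vo, f ≫ ιV = ιU ≫ q₁ := by
    have hr : Set.range (ιU ≫ q₁).left ⊆ Set.range V.ι := by
      rintro _ ⟨p, rfl⟩; rw [Scheme.Opens.range_ι, left_comp_apply]; exact p.2.2.1
    exact ⟨Over.homMk (IsOpenImmersion.lift V.ι _ hr) (by
      show IsOpenImmersion.lift _ _ _ ≫ V.ι ≫ X.hom = _
      rw [IsOpenImmersion.lift_fac_assoc, Over.w]),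
      Over.OverMorphism.ext (IsOpenImmersion.lift_fac _ _ _)⟩
  obtain ⟨f₂, hf₂⟩ : ∃ f : Uo ⟶ Vo, f ≫ ιV = ιU ≫ q₂ := by
    have hr : Set.range (ιU ≫ q₂).left ⊆ Set.range V.ι := by
      rintro _ ⟨p, rfl⟩; rw [Scheme.Opens.range_ι, left_comp_apply]; exact p.2.2.2
    exact ⟨Over.homMk (IsOpenImmersion.lift V.ι _ hr) (by
      show IsOpenImmersion.lift _ _ _ ≫ V.ι ≫ X.hom = _
      rw [IsOpenImmersion.lift_fac_assoc, Over.w]),
      Over.OverMorphism.ext (IsOpenImmersion.lift_fac _ _ _)⟩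
  have hDV : IsClosed (Set.range (lift (𝟙 Vo) (𝟙 Vo)).left) := by
    haveI : IsClosedImmersion (lift (𝟙 Vo) (𝟙 Vo)).left :=
      inferInstanceAs (IsClosedImmersion (pullback.diagonal Vo.hom))
    exact (Scheme.Hom.isClosedEmbedding _).isClosed_range
  have hiff : ∀ u : Uo.left, π (U.ι u) ∈ Set.range (lift (𝟙 X) (𝟙 X)).left ↔
      (lift f₁ f₂).left u ∈ Set.range (lift (𝟙 Vo) (𝟙 Vo)).left := by
    intro u
    let tL : Spec (CommRingCat.of (Uo.left.residueField u)) ⟶ Uo.left := Uo.left.fromSpecResidueField u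
    let τ : Over.mk (tL ≫ Uo.hom) ⟶ Uo := Over.homMk tL rfl
    have hu : τ.left (IsLocalRing.closedPoint (Uo.left.residueField u)) = u :=
      Uo.left.fromSpecResidueField_apply u _
    have hA := mem_range_diag_iff X (tL ≫ Uo.hom) (τ ≫ ιU ≫ snd G XX)
    have hB := mem_range_diag_iff Vo (tL ≫ Uo.hom) (τ ≫ lift f₁ f₂)
    rw [left_comp_apply, hu] at hA hB
    rw [left_comp_apply] at hA
    refine hA.trans (Iff.trans ?_ hB.symm)
    simp only [Category.assoc, lift_fst, lift_snd]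
    constructor
    · intro h
      apply Over.OverMorphism.ext
      rw [← cancel_mono ιV.left]
      rw [← Over.comp_left, ← Over.comp_left, Category.assoc, Category.assoc, hf₁, hf₂]
      simp only [q₁, q₂, ← Category.assoc, comp_lift]
      simp only [Category.assoc] at h ⊢
      rw [h]
    · intro h
      apply act_cancel a (τ ≫ ιU ≫ fst G XX)
      have h' := congrArg (· ≫ ιV) h
      simp only [Category.assoc, hf₁, hf₂, q₁, q₂] at h'
      simpa only [← Category.assoc, comp_lift] using h'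
  let O : Set Uo.left := (lift f₁ f₂).left ⁻¹' (Set.range (lift (𝟙 Vo) (𝟙 Vo)).left)ᶜ
  refine ⟨π '' (U.ι '' O), ?_, hopen _ (U.ι.isOpenEmbedding.isOpenMap _
      (hDV.isOpen_compl.preimage (lift f₁ f₂).left.continuous)) ?_, ?_⟩
  · rintro _ ⟨_, ⟨u, hu, rfl⟩, rfl⟩ hD
    exact hu ((hiff u).mp hD)
  · rintro _ ⟨u, -, rfl⟩; exact u.2
  -- the geometric point gives a point of `U` over `z`
  let m : R ⟶ G ⊗ XX := lift g (c ≫ y)
  have hmπ : π (m.left r) = z := by
    show (snd G XX).left (m.left r) = z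
    rw [← left_comp_apply, lift_snd, left_comp_apply, hy]
  have hmU : m.left r ∈ U := by
    refine ⟨?_, ?_, ?_⟩
    · show (fst G XX).left (m.left r) ∈ W
      rw [← left_comp_apply, lift_fst]
      exact hgW
    · show q₁.left (m.left r) ∈ V
      rw [← left_comp_apply, show m ≫ q₁ = lift g (c ≫ y ≫ fst X X) ≫ a.act by
        simp only [m, q₁, ← Category.assoc, comp_lift, lift_fst, lift_snd]]
      exact h1
    · show q₂.left (m.left r) ∈ V
      rw [← left_comp_apply, show m ≫ q₂ = lift g (c ≫ y ≫ snd X X) ≫ a.act by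
        simp only [m, q₂, ← Category.assoc, comp_lift, lift_fst, lift_snd]]
      exact h2
  refine ⟨_, ⟨⟨m.left r, hmU⟩, fun hO => hz ?_, rfl⟩, hmπ⟩
  have := (hiff ⟨m.left r, hmU⟩).mpr hO
  rwa [show U.ι ⟨m.left r, hmU⟩ = m.left r from rfl, hmπ] at this

include hΦ in
theorem quasiCompact (W : G.left.Opens) (hW : ∀ p : ↥(𝟙_ (Over S)).left, η[G].left.base p ∈ W)
    (hqs : ∀ s : S, QuasiSeparatedSpace ↥(X.hom.base ⁻¹' {s}))
    (hconn : ∀ s : S, _root_.IsPreconnected (X.hom.base ⁻¹' {s}))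
    (V : X.left.Opens) [QuasiCompact (V.ι ≫ X.hom)]
    (hV : ∀ s : S, (X.hom.base ⁻¹' {s}).Nonempty → ((V : Set X.left) ∩ X.hom.base ⁻¹' {s}).Nonempty) :
    QuasiCompact X.hom := by
  refine quasiCompact_iff_forall_isAffineOpen.mpr fun U hU => ?_
  -- a quasi-compact neighbourhood of the unit section over `U`
  have hU' : IsAffineOpen U := hU
  have hce : IsCompact (η[G].left.base '' ((U : Set S) : Set ↥(𝟙_ (Over S)).left)) :=
    hU'.isCompact.image η[G].left.continuous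
  obtain ⟨W₀, hW₀c, hW₀e, hW₀⟩ : ∃ W₀ : G.left.Opens, IsCompact (W₀ : Set G.left) ∧
      (∀ p : ↥(𝟙_ (Over S)).left, (p : S) ∈ U → η[G].left.base p ∈ W₀) ∧ W₀ ≤ W ⊓ G.hom ⁻¹ᵁ U := by
    choose A hA hAm hAs using fun p : ↥(η[G].left.base '' ((U : Set S) : Set ↥(𝟙_ (Over S)).left)) =>
      exists_isAffineOpen_mem_and_subset (X := G.left) (U := W ⊓ G.hom ⁻¹ᵁ U) (x := p.1) (by
        obtain ⟨q, hq, he⟩ := p.2
        rw [← he]
        refine ⟨hW q, ?_⟩
        show G.hom (η[G].left q) ∈ U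
        rw [← Scheme.Hom.comp_apply, Over.w η[G]]
        exact hq)
    obtain ⟨F, hF⟩ := hce.elim_finite_subcover (fun p => ((A p : G.left.Opens) : Set G.left))
      (fun p => (A p).2) (fun x hx => Set.mem_iUnion.mpr ⟨⟨x, hx⟩, hAm _⟩)
    refine ⟨⨆ p ∈ F, A p, ?_, fun p hp => ?_, iSup₂_le fun p _ => hAs p⟩
    · simp only [TopologicalSpace.Opens.coe_iSup]
      exact F.isCompact_biUnion fun p _ => (hA p).isCompact
    · obtain ⟨i, hi, h⟩ := Set.mem_iUnion₂.mp (hF ⟨p, hp, rfl⟩)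
      exact TopologicalSpace.Opens.mem_iSup.mpr ⟨i, TopologicalSpace.Opens.mem_iSup.mpr ⟨hi, h⟩⟩
  -- the open `V₀ = V ∩ X⁻¹ U`
  let V₀ : X.left.Opens := V ⊓ X.hom ⁻¹ᵁ U
  have hV₀c : IsCompact (V₀ : Set X.left) := by
    have h := ((V.ι ≫ X.hom).isCompact_preimage hU'.isCompact).image V.ι.continuous
    convert h using 1
    ext x
    exact ⟨fun hx => ⟨⟨x, hx.1⟩, hx.2, rfl⟩, by rintro ⟨p, hp, rfl⟩; exact ⟨p.2, hp⟩⟩
  haveI : CompactSpace W₀.toScheme := isCompact_iff_compactSpace.mp hW₀c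
  haveI : CompactSpace V₀.toScheme := isCompact_iff_compactSpace.mp hV₀c
  haveI : IsAffine U.toScheme := hU'
  let w₀ : W₀.toScheme ⟶ U.toScheme := IsOpenImmersion.lift U.ι (W₀.ι ≫ G.hom) (by
    rintro _ ⟨p, rfl⟩; rw [Scheme.Opens.range_ι]; exact (hW₀ p.2).2)
  let v₀ : V₀.toScheme ⟶ U.toScheme := IsOpenImmersion.lift U.ι (V₀.ι ≫ X.hom) (by
    rintro _ ⟨p, rfl⟩; rw [Scheme.Opens.range_ι]; exact p.2.2)
  have hw₀ : w₀ ≫ U.ι = W₀.ι ≫ G.hom := IsOpenImmersion.lift_fac _ _ _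
  have hv₀ : v₀ ≫ U.ι = V₀.ι ≫ X.hom := IsOpenImmersion.lift_fac _ _ _
  haveI : QuasiCompact w₀ := (quasiCompact_iff_compactSpace w₀).mpr inferInstance
  haveI : CompactSpace ↥(pullback w₀ v₀) := QuasiCompact.compactSpace_of_compactSpace (pullback.snd w₀ v₀)
  let P : Over S := Over.mk (pullback.snd w₀ v₀ ≫ V₀.ι ≫ X.hom)
  let pG : P ⟶ G := Over.homMk (pullback.fst w₀ v₀ ≫ W₀.ι) (by
    show (_ ≫ _) ≫ _ = pullback.snd w₀ v₀ ≫ V₀.ι ≫ X.hom
    rw [Category.assoc, ← hw₀, ← hv₀, pullback.condition_assoc])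
  let pX : P ⟶ X := Over.homMk (pullback.snd w₀ v₀ ≫ V₀.ι) (by
    show (_ ≫ _) ≫ _ = pullback.snd w₀ v₀ ≫ V₀.ι ≫ X.hom
    rw [Category.assoc])
  let M : P ⟶ X := lift pG⁻¹ pX ≫ a.act
  have hM : Set.range M.left = X.hom ⁻¹' (U : Set S) := by
    refine Set.Subset.antisymm ?_ fun x hx => ?_
    · rintro _ ⟨p, rfl⟩
      show X.hom (M.left p) ∈ U
      rw [← Scheme.Hom.comp_apply, Over.w M]
      exact (pullback.snd w₀ v₀ p).2.2
    obtain ⟨v, hvV, hvs⟩ := hV (X.hom x) ⟨x, rfl⟩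
    let K := AlgebraicClosure (X.left.residueField x)
    let tK : Spec (CommRingCat.of K) ⟶ X.left :=
      Spec.map (CommRingCat.ofHom (algebraMap (X.left.residueField x) K)) ≫ X.left.fromSpecResidueField x
    let y : Over.mk (tK ≫ X.hom) ⟶ X := Over.homMk tK rfl
    have hy : ∀ p, y.left p = x := fun p => X.left.fromSpecResidueField_apply x _
    have htpt : (tK ≫ X.hom) (IsLocalRing.closedPoint K) = X.hom x :=
      (Scheme.Hom.comp_apply _ _ _).trans (congrArg X.hom (hy _))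
    obtain ⟨R, r, g, c, hgW, h1, -⟩ := exists_move a hΦ (tK ≫ X.hom) W₀ (hW₀e _ (htpt.symm ▸ hx))
      (hqs _) (hconn _) V ⟨v, hvV, hvs.trans htpt.symm⟩ y y
    -- the residue point of `r` gives a point of `P`
    let l : Spec (R.left.residueField r) ⟶ R.left := R.left.fromSpecResidueField r
    let T : Over S := Over.mk (l ≫ R.hom)
    let τ : T ⟶ R := Over.homMk l rfl
    have hτ : ∀ p, τ.left p = r := fun p => R.left.fromSpecResidueField_apply r p
    let gT : T ⟶ G := τ ≫ g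
    let xT : T ⟶ X := τ ≫ c ≫ y
    let vT : T ⟶ X := lift gT xT ≫ a.act
    have hvT : vT = τ ≫ lift g (c ≫ y) ≫ a.act := by simp only [vT, gT, xT, ← Category.assoc, comp_lift]
    have hgr : Set.range gT.left ⊆ Set.range W₀.ι := by
      rintro _ ⟨p, rfl⟩
      rw [Scheme.Opens.range_ι, left_comp_apply, hτ]
      exact hgW
    have hvr : Set.range vT.left ⊆ Set.range V₀.ι := by
      rintro _ ⟨p, rfl⟩
      rw [Scheme.Opens.range_ι]
      refine ⟨?_, ?_⟩
      · rw [hvT, left_comp_apply, hτ]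
        exact h1
      · show X.hom (vT.left p) ∈ U
        rw [← Scheme.Hom.comp_apply, Over.w vT, ← Over.w gT, Scheme.Hom.comp_apply]
        exact (hW₀ (show gT.left p ∈ W₀ by
          have := hgr ⟨p, rfl⟩; rwa [Scheme.Opens.range_ι] at this)).2
    obtain ⟨γ, hγ⟩ : ∃ γ : T.left ⟶ W₀.toScheme, γ ≫ W₀.ι = gT.left :=
      ⟨IsOpenImmersion.lift W₀.ι gT.left hgr, IsOpenImmersion.lift_fac _ _ _⟩
    obtain ⟨ν, hν⟩ : ∃ ν : T.left ⟶ V₀.toScheme, ν ≫ V₀.ι = vT.left :=
      ⟨IsOpenImmersion.lift V₀.ι vT.left hvr, IsOpenImmersion.lift_fac _ _ _⟩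
    have hc : γ ≫ w₀ = ν ≫ v₀ := by
      rw [← cancel_mono U.ι, Category.assoc, Category.assoc, hw₀, hv₀, reassoc_of% hγ, reassoc_of% hν,
        Over.w gT, Over.w vT]
    let π : T ⟶ P := Over.homMk (pullback.lift γ ν hc) (by
      show pullback.lift γ ν hc ≫ pullback.snd w₀ v₀ ≫ V₀.ι ≫ X.hom = T.hom
      rw [pullback.lift_snd_assoc, reassoc_of% hν, Over.w vT])
    have hπG : π ≫ pG = gT := Over.OverMorphism.ext (by simp only [π, pG, Over.comp_left, Over.homMk_left]; erw [pullback.lift_fst_assoc]; exact hγ)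
    have hπX : π ≫ pX = vT := Over.OverMorphism.ext (by simp only [π, pX, Over.comp_left, Over.homMk_left]; erw [pullback.lift_snd_assoc]; exact hν)
    have hπM : π ≫ M = xT := by
      simp only [M, ← Category.assoc, comp_lift, GrpObj.comp_inv, hπG, hπX, vT]
      rw [act_mul, inv_mul_cancel, act_one]
    refine ⟨π.left (IsLocalRing.closedPoint (R.left.residueField r)), ?_⟩
    rw [← left_comp_apply, hπM, left_comp_apply, left_comp_apply, hy]
  show IsCompact (X.hom ⁻¹' (U : Set S))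
  rw [← hM]
  haveI : CompactSpace P.left := ‹CompactSpace ↥(pullback w₀ v₀)›
  exact isCompact_range M.left.continuous

end Groth.Agent.HomSepQC
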